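import Groth.Agent.Lib.K0Cat.Basic

/-!
# Dévissage for `K₀`

`P` a class of objects closed under kernels and cokernels, `Q ⊆ P` closed under subobjects and quotients.
A function on `Q` additive in short exact sequences extends additively to the objects of `P` which have a
finite filtration with quotients in `Q`.
-/

set_option autoImplicit false

universe v u w

open CategoryTheory CategoryTheory.Limits

namespace Groth.Agent.KDev4

variable {A : Type u} [Category.{v} A] [Abelian A]

/-- The data of a dévissage. -/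
structure Setup (P Q : ObjectProperty A) {G : Type w} [AddCommGroup G] (h : A → G) : Prop where
  iso : ∀ {X Y : A}, (X ≅ Y) → P X → P Y
  ker : ∀ {X Y : A} (f : X ⟶ Y), P X → P Y → P (kernel f)
  coker : ∀ {X Y : A} (f : X ⟶ Y), P X → P Y → P (cokernel f)
  le : ∀ X, Q X → P X
  sub : ∀ {X Y : A} (f : X ⟶ Y) [Mono f], P X → Q Y → Q X
  quot : ∀ {X Y : A} (f : X ⟶ Y) [Epi f], P Y → Q X → Q Y
  zero : ∀ X, Q X → IsZero X → h X = 0
  add : ∀ S : ShortComplex A, S.ShortExact → Q S.X₁ → Q S.X₂ → Q S.X₃ → h S.X₂ = h S.X₁ + h S.X₃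

variable (P Q : ObjectProperty A) {G : Type w} [AddCommGroup G] (h : A → G)

/-- Values computed from finite filtrations. -/
inductive Val : A → G → Prop
  | zero {B : A} : IsZero B → Val B 0
  | ext {A₁ B C : A} {v : G} (f : A₁ ⟶ B) (g : B ⟶ C) (w : f ≫ g = 0) :
      (ShortComplex.mk f g w).ShortExact → P A₁ → P B → Q C → Val A₁ v → Val B (v + h C)

theorem shortExact_image {X Y : A} (φ : X ⟶ Y) :
    (ShortComplex.mk (Abelian.image.ι φ) (cokernel.π φ) (kernel.condition _)).ShortExact :=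
  { exact := ShortComplex.exact_kernel (cokernel.π φ) }

theorem shortExact_of_mono {X Y : A} (φ : X ⟶ Y) [Mono φ] :
    (ShortComplex.mk φ (cokernel.π φ) (cokernel.condition φ)).ShortExact :=
  { exact := ShortComplex.exact_cokernel φ }

theorem shortExact_of_epi {X Y : A} (φ : X ⟶ Y) [Epi φ] :
    (ShortComplex.mk (kernel.ι φ) φ (kernel.condition φ)).ShortExact :=
  { exact := ShortComplex.exact_kernel φ }

variable {P Q h}

theorem Setup.prop_image (hs : Setup P Q h) {X Y : A} (φ : X ⟶ Y) (hX : P X) (hY : P Y) :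
    P (Abelian.image φ) := hs.ker _ hY (hs.coker φ hX hY)

theorem Setup.q_iso (hs : Setup P Q h) {X Y : A} (e : X ≅ Y) (hX : Q X) : Q Y :=
  hs.sub e.inv (hs.iso e (hs.le _ hX)) hX

theorem Setup.h_iso (hs : Setup P Q h) {X Y : A} (e : X ≅ Y) (hX : Q X) : h X = h Y := by
  have hZ : IsZero (cokernel (𝟙 X)) := isZero_cokernel_of_epi _
  have hP0 : P (cokernel (𝟙 X)) := hs.coker _ (hs.le _ hX) (hs.le _ hX)
  have hQ0 : Q (cokernel (𝟙 X)) := hs.quot (cokernel.π (𝟙 X)) hP0 hX
  have hS : (ShortComplex.mk e.hom (0 : Y ⟶ cokernel (𝟙 X)) comp_zero).ShortExact :=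
    ShortComplex.shortExact_of_iso
      (ShortComplex.isoMk (S₁ := ShortComplex.mk (𝟙 X) (0 : X ⟶ cokernel (𝟙 X)) comp_zero)
        (Iso.refl _) e (Iso.refl _) (by simp) (by simp))
      (K0Cat.shortExact_id_zero hZ)
  have := hs.add _ hS hX (hs.q_iso e hX) hQ0
  simp only [hs.zero _ hQ0 hZ, add_zero] at this
  exact this.symm

theorem Setup.h_split (hs : Setup P Q h) {X Y : A} (φ : X ⟶ Y) (hX : P X) (hY : Q Y) :
    h Y = h (Abelian.image φ) + h (cokernel φ) :=
  hs.add _ (shortExact_image φ) (hs.sub (Abelian.image.ι φ) (hs.prop_image φ hX (hs.le _ hY)) hY) hY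
    (hs.quot (cokernel.π φ) (hs.coker φ hX (hs.le _ hY)) hY)

theorem Val.of_iso (hs : Setup P Q h) {B B' : A} {v : G} (e : B ≅ B') (hv : Val P Q h B v) :
    Val P Q h B' v := by
  cases hv with
  | zero hB => exact .zero (hB.of_iso e.symm)
  | @ext A₁ _ C v f g w hS h1 h2 h3 ha =>
    refine .ext (f ≫ e.hom) (e.inv ≫ g) (by simp [w]) ?_ h1 (hs.iso e h2) h3 ha
    exact ShortComplex.shortExact_of_iso
      (ShortComplex.isoMk (S₁ := ShortComplex.mk f g w) (Iso.refl _) e (Iso.refl _) (by simp) (by simp)) hS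

theorem Val.eq_zero (hs : Setup P Q h) {B : A} {v : G} (hv : Val P Q h B v) (hB : IsZero B) : v = 0 := by
  induction hv with
  | zero _ => rfl
  | @ext A₁ B C v f g w hS h1 h2 h3 _ ih =>
    haveI := hS.mono_f
    haveI := hS.epi_g
    rw [ih (IsZero.of_mono f hB), hs.zero C h3 (IsZero.of_epi g hB), add_zero]

theorem Val.of_q (hs : Setup P Q h) {B : A} (hB : Q B) : Val P Q h B (h B) := by
  have hPB := hs.le _ hB
  have hS := shortExact_of_epi (𝟙 B)
  have := Val.ext (h := h) (kernel.ι (𝟙 B)) (𝟙 B) (kernel.condition _) hS (hs.ker _ hPB hPB) hPB hB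
    (.zero (isZero_kernel_of_mono _))
  rwa [zero_add] at this

/-- Compatibility with a step of the filtration. -/
theorem Val.step (hs : Setup P Q h) {B : A} {v : G} (hv : Val P Q h B v) :
    ∀ {A' C' : A} (f' : A' ⟶ B) (g' : B ⟶ C') (w' : f' ≫ g' = 0), (ShortComplex.mk f' g' w').ShortExact →
      P A' → Q C' → ∃ v', Val P Q h A' v' ∧ v = v' + h C' := by
  induction hv with
  | zero hB =>
    intro A' C' f' g' w' hS hA hC
    haveI := hS.mono_f
    haveI := hS.epi_g
    exact ⟨0, .zero (IsZero.of_mono f' hB), by rw [hs.zero C' hC (IsZero.of_epi g' hB), add_zero]⟩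
  | @ext A₁ B C v f g w hS₀ h1 h2 h3 _ ih =>
    intro A' C' f' g' w' hS hA hC
    haveI := hS₀.mono_f
    haveI := hS₀.epi_g
    haveI := hS.mono_f
    haveI := hS.epi_g
    let φ := f ≫ g'
    let ψ := f' ≫ g
    let K := kernel φ
    let i := kernel.ι φ
    have hKP : P K := hs.ker φ h1 (hs.le _ hC)
    obtain ⟨w₁, hw₁, rfl⟩ := ih i (Abelian.factorThruImage φ)
      (by rw [← cancel_mono (Abelian.image.ι φ)]; simp [i]) (K0Cat.shortExact_kernel_image φ)
      hKP (hs.sub (Abelian.image.ι φ) (hs.prop_image φ h1 (hs.le _ hC)) hC)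
    let j : K ⟶ A' := hS.exact.lift (i ≫ f) (by rw [Category.assoc]; exact kernel.condition φ)
    have hj : j ≫ f' = i ≫ f := hS.exact.lift_f _ _
    haveI : Mono (j ≫ f') := by rw [hj]; infer_instance
    haveI : Mono j := mono_of_mono j f'
    have hjψ : j ≫ ψ = 0 := by rw [← Category.assoc, hj, Category.assoc, w, comp_zero]
    have wj : j ≫ Abelian.factorThruImage ψ = 0 := by
      rw [← cancel_mono (Abelian.image.ι ψ), Category.assoc, Abelian.image.fac, hjψ, zero_comp]
    let lK : kernel ψ ⟶ K := kernel.lift φ (hS₀.exact.lift (kernel.ι ψ ≫ f')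
        (by rw [Category.assoc]; exact kernel.condition ψ)) (by
      show hS₀.exact.lift (kernel.ι ψ ≫ f') _ ≫ f ≫ g' = 0
      rw [← Category.assoc, hS₀.exact.lift_f, Category.assoc, w', comp_zero])
    have hlK : lK ≫ j = kernel.ι ψ := by
      rw [← cancel_mono f', Category.assoc, hj, ← Category.assoc, kernel.lift_ι, hS₀.exact.lift_f]
    let eK : K ≅ kernel ψ :=
      { hom := kernel.lift ψ j hjψ
        inv := lK
        hom_inv_id := by rw [← cancel_mono j, Category.assoc, hlK, kernel.lift_ι, Category.id_comp]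
        inv_hom_id := by rw [← cancel_mono (kernel.ι ψ), Category.assoc, kernel.lift_ι, hlK, Category.id_comp] }
    have hseq : (ShortComplex.mk j (Abelian.factorThruImage ψ) wj).ShortExact :=
      ShortComplex.shortExact_of_iso
        (ShortComplex.isoMk (S₁ := ShortComplex.mk (kernel.ι ψ) (Abelian.factorThruImage ψ)
            (by rw [← cancel_mono (Abelian.image.ι ψ)]; simp))
          eK.symm (Iso.refl _) (Iso.refl _) (by simpa using hlK) (by simp))
        (K0Cat.shortExact_kernel_image ψ)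
    refine ⟨w₁ + h (Abelian.image ψ), .ext j _ wj hseq hKP hA
      (hs.sub (Abelian.image.ι ψ) (hs.prop_image ψ hA (hs.le _ h3)) h3) hw₁, ?_⟩
    let a : C ⟶ cokernel φ := hS₀.exact.desc (g' ≫ cokernel.π φ) (by rw [← Category.assoc]; exact cokernel.condition φ)
    have ha : g ≫ a = g' ≫ cokernel.π φ := hS₀.exact.g_desc _ _
    let b : C' ⟶ cokernel ψ := hS.exact.desc (g ≫ cokernel.π ψ) (by rw [← Category.assoc]; exact cokernel.condition ψ)
    have hb : g' ≫ b = g ≫ cokernel.π ψ := hS.exact.g_desc _ _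
    let ec : cokernel ψ ≅ cokernel φ :=
      { hom := cokernel.desc ψ a (by rw [Category.assoc, ha, ← Category.assoc, w', zero_comp])
        inv := cokernel.desc φ b (by rw [Category.assoc, hb, ← Category.assoc, w, zero_comp])
        hom_inv_id := by
          rw [← cancel_epi (cokernel.π ψ), ← cancel_epi g, cokernel.π_desc_assoc, reassoc_of% ha,
            cokernel.π_desc, hb, Category.comp_id]
        inv_hom_id := by
          rw [← cancel_epi (cokernel.π φ), ← cancel_epi g', cokernel.π_desc_assoc, reassoc_of% hb,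
            cokernel.π_desc, ha, Category.comp_id] }
    rw [hs.h_split ψ hA h3, hs.h_split φ h1 hC,
      hs.h_iso ec (hs.quot (cokernel.π ψ) (hs.coker ψ hA (hs.le _ h3)) h3)]
    abel

/-- Subobjects of filtered objects are filtered. -/
theorem Val.exists_sub (hs : Setup P Q h) {B : A} {v : G} (hv : Val P Q h B v) :
    ∀ {A' : A} (f' : A' ⟶ B) [Mono f'], P A' → ∃ v', Val P Q h A' v' := by
  induction hv with
  | zero hB => intro A' f' _ _; exact ⟨0, .zero (IsZero.of_mono f' hB)⟩
  | @ext A₁ B C v f g w hS₀ h1 h2 h3 _ ih =>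
    intro A' f' _ hA
    haveI := hS₀.mono_f
    let ψ := f' ≫ g
    let i : kernel ψ ⟶ A₁ := hS₀.exact.lift (kernel.ι ψ ≫ f') (by rw [Category.assoc]; exact kernel.condition ψ)
    haveI : Mono (i ≫ f) := by rw [hS₀.exact.lift_f]; infer_instance
    haveI : Mono i := mono_of_mono i f
    have hK : P (kernel ψ) := hs.ker ψ hA (hs.le _ h3)
    obtain ⟨v', hv'⟩ := ih i hK
    exact ⟨_, .ext (kernel.ι ψ) (Abelian.factorThruImage ψ) (by rw [← cancel_mono (Abelian.image.ι ψ)]; simp)
      (K0Cat.shortExact_kernel_image ψ) hK hA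
      (hs.sub (Abelian.image.ι ψ) (hs.prop_image ψ hA (hs.le _ h3)) h3) hv'⟩

/-- Quotients of filtered objects are filtered. -/
theorem Val.exists_quot (hs : Setup P Q h) {B : A} {v : G} (hv : Val P Q h B v) :
    ∀ {B' : A} (p : B ⟶ B') [Epi p], P B' → ∃ v', Val P Q h B' v' := by
  induction hv with
  | zero hB => intro B' p _ _; exact ⟨0, .zero (IsZero.of_epi p hB)⟩
  | @ext A₁ B C v f g w hS₀ h1 h2 h3 _ ih =>
    intro B' p _ hB
    haveI := hS₀.epi_g
    let φ := f ≫ p
    have hI : P (Abelian.image φ) := hs.prop_image φ h1 hB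
    obtain ⟨v', hv'⟩ := ih (Abelian.factorThruImage φ) hI
    let b : C ⟶ cokernel φ := hS₀.exact.desc (p ≫ cokernel.π φ) (by rw [← Category.assoc]; exact cokernel.condition φ)
    haveI : Epi (g ≫ b) := by rw [hS₀.exact.g_desc]; infer_instance
    haveI : Epi b := epi_of_epi g b
    exact ⟨_, .ext (Abelian.image.ι φ) (cokernel.π φ) (kernel.condition _) (shortExact_image φ) hI hB
      (hs.quot b (hs.coker φ h1 hB) h3) hv'⟩

theorem Val.unique (hs : Setup P Q h) {B : A} {v : G} (hv : Val P Q h B v) :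
    ∀ {v₁ : G}, Val P Q h B v₁ → v₁ = v := by
  induction hv with
  | zero hB => intro v₁ h₁; exact h₁.eq_zero hs hB
  | @ext A₁ B C v f g w hS₀ h1 h2 h3 _ ih =>
    intro v₁ hv₁
    obtain ⟨v', hv', rfl⟩ := hv₁.step hs f g w hS₀ h1 h3
    rw [ih hv']

/-- Values are additive. -/
theorem Val.add (hs : Setup P Q h) {C : A} {c : G} (hc : Val P Q h C c) :
    ∀ {A' B : A} {a : G} (f : A' ⟶ B) (g : B ⟶ C) (w : f ≫ g = 0), (ShortComplex.mk f g w).ShortExact →
      P A' → P B → Val P Q h A' a → Val P Q h B (a + c) := by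
  induction hc with
  | zero hC =>
    intro A' B a f g w hS _ _ ha
    haveI := hS.isIso_f_iff.2 hC
    rw [add_zero]
    exact ha.of_iso hs (asIso f)
  | @ext C₁ C D v f₀ g₀ w₀ hS₀ h1 h2 h3 _ ih =>
    intro A' B a f g w hS hA hB ha
    haveI := hS.mono_f
    haveI := hS.epi_g
    haveI := hS₀.mono_f
    haveI := hS₀.epi_g
    let p := g ≫ g₀
    let f₁ : A' ⟶ kernel p := kernel.lift p f (by rw [← Category.assoc, w, zero_comp])
    let g₁ : kernel p ⟶ C₁ := hS₀.exact.lift (kernel.ι p ≫ g) (by rw [Category.assoc]; exact kernel.condition p)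
    have hg₁ : g₁ ≫ f₀ = kernel.ι p ≫ g := hS₀.exact.lift_f _ _
    have w₁ : f₁ ≫ g₁ = 0 := by
      rw [← cancel_mono f₀, Category.assoc, hg₁, kernel.lift_ι_assoc, w, zero_comp]
    have hP₁ : P (kernel p) := hs.ker p hB (hs.le _ h3)
    haveI : Mono (f₁ ≫ kernel.ι p) := by rw [kernel.lift_ι]; infer_instance
    have hS₁ : (ShortComplex.mk f₁ g₁ w₁).ShortExact :=
      { exact := by
          refine ShortComplex.exact_of_f_is_kernel _ (KernelFork.IsLimit.ofι' _ _ fun k hk => ?_)
          refine ⟨hS.exact.lift (k ≫ kernel.ι p) ?_, ?_⟩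
          · show (k ≫ kernel.ι p) ≫ g = 0
            rw [Category.assoc, ← hg₁, ← Category.assoc, hk, zero_comp]
          · rw [← cancel_mono (kernel.ι p), Category.assoc, kernel.lift_ι]
            exact hS.exact.lift_f _ _
        mono_f := mono_of_mono f₁ (kernel.ι p)
        epi_g := by
          have hsq : IsPullback g₁ (kernel.ι p) f₀ g := IsPullback.of_isLimit'
            ⟨hg₁⟩ (PullbackCone.IsLimit.mk _ (fun s => kernel.lift p s.snd (by
                rw [← Category.assoc, ← s.condition, Category.assoc, w₀, comp_zero]))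
              (fun s => by rw [← cancel_mono f₀, Category.assoc, hg₁, kernel.lift_ι_assoc, s.condition])
              (fun s => kernel.lift_ι _ _ _) (fun s m _ hm => by rw [← cancel_mono (kernel.ι p), kernel.lift_ι, hm]))
          exact Abelian.epi_fst_of_isLimit (f := f₀) (g := g) hsq.isLimit }
    have hval := ih f₁ g₁ w₁ hS₁ hA hP₁ ha
    rw [← add_assoc]
    exact .ext (kernel.ι p) p (kernel.condition p) (shortExact_of_epi p) hP₁ hB h3 hval

/-- An additive function on `Q` extends to `K₀` of `P`. -/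
theorem exists_extension (hs : Setup P Q h) (hfil : ∀ B, P B → ∃ v, Val P Q h B v) :
    ∃ φ : KZero.K0sub P →+ G, ∀ X, Q X → φ (KZero.clSub P X) = h X := by
  let val : Subtype P → G := fun B => (hfil B.1 B.2).choose
  have hval : ∀ B, Val P Q h B.1 (val B) := fun B => (hfil B.1 B.2).choose_spec
  refine ⟨K0Cat.liftSub val fun S h₁ h₂ h₃ hS => ?_, fun X hX => ?_⟩
  · exact Val.unique hs ((hval ⟨S.X₃, h₃⟩).add hs S.f S.g S.zero hS h₁ h₂ (hval ⟨S.X₁, h₁⟩)) (hval ⟨S.X₂, h₂⟩)
  · rw [K0Cat.liftSub_clSub _ _ (hs.le _ hX)]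
    exact Val.unique hs (Val.of_q hs hX) (hval ⟨X, hs.le _ hX⟩)

/-- The classes of `Q` generate. -/
theorem mem_of_val (hs : Setup P Q h) (H : AddSubgroup (KZero.K0sub P)) (hH : ∀ X, Q X → KZero.clSub P X ∈ H)
    {B : A} {v : G} (hv : Val P Q h B v) (hB : P B) : KZero.clSub P B ∈ H := by
  induction hv with
  | zero hz => rw [K0Cat.clSub_of_isZero hz hB]; exact H.zero_mem
  | @ext A₁ B C v f g w hS h1 h2 h3 _ ih =>
    rw [K0Cat.clSub_ses (P := P) (ShortComplex.mk f g w) hS h1 h2 (hs.le _ h3)]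
    exact H.add_mem (ih h1) (hH C h3)

end Groth.Agent.KDev4
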